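import Mathlib
import Cfsg.Agent.S4134
import Cfsg.Agent.Lib.Helper41.CS3.GoodDefs
import Cfsg.Agent.Lib.Helper71.CS3.Basics5

/-!
# CS3 (S4284), part GOOD: package [ITO].
-/

set_option autoImplicit false

namespace Cfsg.Agent.Lib.Helper41.CS3

universe u

open Cfsg.Agent.Lib.Helper81.CS3

/-- commuting subgroups: every element of the sup is a product. -/
theorem mem_sup_comm {G : Type u} [Group G] {A B : Subgroup G} (h : Comm A B) {x : G}
    (hx : x ∈ A ⊔ B) : ∃ a ∈ A, ∃ b ∈ B, x = a * b := by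
  have hc : ∀ (a : A) (b : B), Commute (A.subtype a) (B.subtype b) := fun a b => h a a.2 b b.2
  have hr := MonoidHom.noncommCoprod_range A.subtype B.subtype hc
  rw [Subgroup.range_subtype, Subgroup.range_subtype] at hr
  rw [← hr] at hx
  obtain ⟨⟨a, b⟩, hab⟩ := hx
  exact ⟨a, a.2, b, b.2, by rw [← hab]; rfl⟩

theorem card_sup_dvd {G : Type u} [Group G] [Finite G] {A B : Subgroup G} (h : Comm A B) :
    Nat.card (A ⊔ B : Subgroup G) ∣ Nat.card A * Nat.card B := by
  have hc : ∀ (a : A) (b : B), Commute (A.subtype a) (B.subtype b) := fun a b => h a a.2 b b.2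
  have hr := MonoidHom.noncommCoprod_range A.subtype B.subtype hc
  rw [Subgroup.range_subtype, Subgroup.range_subtype] at hr
  rw [← hr, ← Nat.card_prod]
  exact Subgroup.card_range_dvd _

theorem relIndex_mul_card_inf {G : Type u} [Group G] [Finite G] (H K : Subgroup G) :
    H.relIndex K * Nat.card (H ⊓ K : Subgroup G) = Nat.card K := by
  have h1 := Subgroup.card_mul_index (H.subgroupOf K)
  have h2 : Nat.card (H.subgroupOf K) = Nat.card (H ⊓ K : Subgroup G) := by
    rw [← Subgroup.inf_subgroupOf_right]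
    exact Nat.card_congr (Subgroup.subgroupOfEquivOfLe inf_le_right).toEquiv
  rw [h2] at h1
  rw [Subgroup.relIndex, mul_comm]
  exact h1

theorem pkgIto : PkgIto.{u} := by
  intro G _ _ m n hyp s a Sa N hg hd hnab
  classical
  have hm1 : 1 < m := hyp.2.1
  have hn1 : 1 < n := hyp.2.2.1
  have hcop : m.Coprime n := hyp.2.2.2.1
  have hcls : ∀ x : ↥N, (Subgroup.centralizer ({x} : Set ↥N)).index = 1 ∨
      (Subgroup.centralizer ({x} : Set ↥N)).index = n := by
    intro x
    rw [Cfsg.Agent.Lib.Helper71.CS3.idx_subtype]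
    have h1 := relIndex_mul_card_inf (Cn (x : G)) N
    have hpos : 0 < Nat.card (Cn (x : G) ⊓ N : Subgroup G) := Nat.card_pos
    rcases hd.cls x x.2 with h | h
    · left
      exact Nat.eq_of_mul_eq_mul_right hpos (by rw [h1, one_mul]; exact h)
    · right
      exact Nat.eq_of_mul_eq_mul_right hpos (by rw [h1]; exact h)
  have hex : ∃ x : ↥N, (Subgroup.centralizer ({x} : Set ↥N)).index = n := by
    by_contra hno
    apply hnab
    intro x hx y hy
    have h1 : (Subgroup.centralizer ({(⟨x, hx⟩ : ↥N)} : Set ↥N)).index = 1 := by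
      rcases hcls ⟨x, hx⟩ with h | h
      · exact h
      · exact absurd ⟨_, h⟩ hno
    rw [Subgroup.index_eq_one] at h1
    have h2 : (⟨y, hy⟩ : ↥N) ∈ Subgroup.centralizer ({(⟨x, hx⟩ : ↥N)} : Set ↥N) := by
      rw [h1]; trivial
    rw [Subgroup.mem_centralizer_singleton_iff] at h2
    have h3 := congrArg Subtype.val h2
    exact h3.symm
  obtain ⟨t, htF, k, hnk, hP⟩ := Cfsg.Agent.S4134.result (G := ↥N) n hn1 hcls hex
  haveI := htF
  haveI : Fact s.Prime := ⟨hg.sp⟩
  have htp : t.Prime := Fact.out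
  obtain ⟨P⟩ : Nonempty (Sylow t ↥N) := inferInstance
  obtain ⟨hPn, ⟨B0, hB0n, hcompl, hB0ab, hB0P⟩, -⟩ := hP P
  have hk0 : k ≠ 0 := by
    rintro rfl
    rw [pow_zero] at hnk
    omega
  have htn : t ∣ n := by rw [hnk]; exact dvd_pow_self t hk0
  have htm : ¬ t ∣ m := by
    intro h
    have h1 : t ∣ Nat.gcd m n := Nat.dvd_gcd h htn
    rw [hcop] at h1
    exact htp.one_lt.ne' (Nat.dvd_one.mp h1)
  have hts : t ≠ s := by
    rintro rfl
    exact htm hg.sm
  set T : Subgroup G := (P : Subgroup ↥N).map N.subtype with hT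
  set B : Subgroup G := B0.map N.subtype with hB
  have hTN : T ≤ N := Subgroup.map_subtype_le _
  have hBN : B ≤ N := Subgroup.map_subtype_le _
  have hTB : Comm T B := by
    rintro x ⟨x', hx', rfl⟩ y ⟨y', hy', rfl⟩
    have h := hB0P y' hy' x' hx'
    exact (congrArg Subtype.val h).symm
  have hBab : Ab B := by
    rintro x ⟨x', hx', rfl⟩ y ⟨y', hy', rfl⟩
    have h := hB0ab.is_comm.comm (⟨x', hx'⟩ : B0) ⟨y', hy'⟩
    exact congrArg Subtype.val (congrArg Subtype.val h)
  have hsupTB : T ⊔ B = N := by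
    rw [hT, hB, ← Subgroup.map_sup, sup_comm, hcompl.sup_eq_top, ← MonoidHom.range_eq_map,
      Subgroup.range_subtype]
  have hcardT : Nat.card T = Nat.card (P : Subgroup ↥N) :=
    Subgroup.card_map_of_injective N.subtype_injective
  have hcardB : Nat.card B = Nat.card B0 :=
    Subgroup.card_map_of_injective N.subtype_injective
  have hcardN : Nat.card B * Nat.card T = Nat.card N := by
    rw [hcardT, hcardB]
    exact hcompl.card_mul_card
  have hBt : ¬ t ∣ Nat.card B := by
    rw [hcardB, ← hcompl.index_eq_card]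
    exact P.not_dvd_index
  have hpT : IsPGroup t T := P.isPGroup'.map N.subtype
  have hSaN : Sa ⊔ N = Cn a := hd.sup
  refine ⟨t, T, B, ?_⟩
  refine
    { tp := htp
      tn := ⟨k, hnk⟩
      sa_t := fun x hx y hy => hd.comm x hx y (hTN hy)
      sa_b := fun x hx y hy => hd.comm x hx y (hBN hy)
      t_b := hTB
      b_ab := hBab
      sup := by rw [sup_assoc, hsupTB]; exact hSaN
      pS := hd.pS
      pT := hpT
      copB := ((Nat.Prime.coprime_iff_not_dvd htp).mpr hBt).symm
      copBs := Nat.Coprime.coprime_dvd_left (Subgroup.card_dvd_of_le hBN) hd.cop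
      sylT := ?_
      nab := ?_
      cls := ?_ }
  · -- T.index ∣ m * card Sa * card B
    intro hdvd
    have h1 : Nat.card (Cn a) * (Cn a).index = Nat.card G := Subgroup.card_mul_index _
    have h2 : Nat.card T * T.index = Nat.card G := Subgroup.card_mul_index _
    have h3 : Nat.card (Cn a) ∣ Nat.card Sa * Nat.card N := by
      rw [← hSaN]; exact card_sup_dvd hd.comm
    obtain ⟨e, he⟩ := IsPGroup.iff_card.mp hd.pS
    have hia : (Cn a).index = m := hg.ixa
    rw [hia] at h1
    have h4 : Nat.card T * T.index ∣ Nat.card T * (s ^ e * Nat.card B * m) := by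
      rw [h2, ← h1]
      calc Nat.card (Cn a) * m ∣ (Nat.card Sa * Nat.card N) * m := Nat.mul_dvd_mul_right h3 m
        _ = Nat.card T * (s ^ e * Nat.card B * m) := by rw [he, ← hcardN]; ring
    have hTpos : 0 < Nat.card T := Nat.card_pos
    have h5 : T.index ∣ s ^ e * Nat.card B * m := Nat.dvd_of_mul_dvd_mul_left hTpos h4
    have h6 := hdvd.trans h5
    rcases (Nat.Prime.dvd_mul htp).mp h6 with h7 | h7
    · rcases (Nat.Prime.dvd_mul htp).mp h7 with h8 | h8
      · exact hts ((Nat.prime_dvd_prime_iff_eq htp hg.sp).mp (htp.dvd_of_dvd_pow h8))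
      · exact hBt h8
    · exact htm h7
  · -- T not abelian
    intro hTab
    apply hnab
    have hall : ∀ x ∈ N, ∀ z ∈ T ⊔ B, x * z = z * x := by
      intro x hx z hz
      rw [← hsupTB] at hx
      obtain ⟨x1, hx1, x2, hx2, rfl⟩ := mem_sup_comm hTB hx
      obtain ⟨z1, hz1, z2, hz2, rfl⟩ := mem_sup_comm hTB hz
      have e1 := hTab x1 hx1 z1 hz1
      have e2 := hTB x1 hx1 z2 hz2
      have e3 := hTB z1 hz1 x2 hx2
      have e4 := hBab x2 hx2 z2 hz2
      calc x1 * x2 * (z1 * z2) = x1 * (x2 * z1) * z2 := by group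
        _ = x1 * (z1 * x2) * z2 := by rw [e3]
        _ = (x1 * z1) * (x2 * z2) := by group
        _ = (z1 * x1) * (z2 * x2) := by rw [e1, e4]
        _ = z1 * (x1 * z2) * x2 := by group
        _ = z1 * (z2 * x1) * x2 := by rw [e2]
        _ = z1 * z2 * (x1 * x2) := by group
    intro x hx y hy
    exact hall x hx y (by rw [hsupTB]; exact hy)
  · intro y hyT ⟨z, hzT, hyz⟩
    have hyN : y ∈ N := hTN hyT
    have hne : Nat.card N ≠ Nat.card (Cn y ⊓ N : Subgroup G) := by
      intro hc
      have hle : (Cn y ⊓ N : Subgroup G) ≤ N := inf_le_right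
      have heq : (Cn y ⊓ N : Subgroup G) = N :=
        Subgroup.eq_of_le_of_card_ge hle (le_of_eq hc)
      have hz : z ∈ (Cn y ⊓ N : Subgroup G) := by rw [heq]; exact hTN hzT
      have hz1 : z ∈ Cn y := hz.1
      rw [Subgroup.mem_centralizer_singleton_iff] at hz1
      exact hyz hz1.symm
    have hN : Nat.card N = n * Nat.card (Cn y ⊓ N : Subgroup G) := by
      rcases hd.cls y hyN with h | h
      · exact absurd h hne
      · exact h
    -- card (Cn y ⊓ N) = card (Cn y ⊓ T) * card B
    have hBCy : B ≤ Cn y := by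
      intro b hb
      rw [Subgroup.mem_centralizer_singleton_iff]
      exact (hTB y hyT b hb).symm
    have hsup2 : (Cn y ⊓ T : Subgroup G) ⊔ B = Cn y ⊓ N := by
      apply le_antisymm
      · exact sup_le (inf_le_inf_left _ hTN) (le_inf hBCy hBN)
      · intro x hx
        have hxN : x ∈ T ⊔ B := by rw [hsupTB]; exact hx.2
        obtain ⟨x1, hx1, x2, hx2, rfl⟩ := mem_sup_comm hTB hxN
        have hx1C : x1 ∈ Cn y := by
          have h1 : x1 = x1 * x2 * x2⁻¹ := by group
          rw [h1]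
          exact (Cn y).mul_mem hx.1 ((Cn y).inv_mem (hBCy hx2))
        exact (Subgroup.mul_mem_sup ⟨hx1C, hx1⟩ hx2)
    have hcomm2 : Comm (Cn y ⊓ T : Subgroup G) B := fun x hx b hb => hTB x hx.2 b hb
    have hdvd1 : Nat.card (Cn y ⊓ N : Subgroup G) ∣ Nat.card (Cn y ⊓ T : Subgroup G) * Nat.card B := by
      rw [← hsup2]; exact card_sup_dvd hcomm2
    -- card T * card B = n * card (Cn y ⊓ N) ≤ n * card (Cn y ⊓ T) * card B; and card(Cn y ⊓ T) * card B ∣ card (Cn y ⊓ N)
    have hdvd2 : Nat.card (Cn y ⊓ T : Subgroup G) * Nat.card B ∣ Nat.card (Cn y ⊓ N : Subgroup G) := by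
      have hcopTB : (Nat.card (Cn y ⊓ T : Subgroup G)).Coprime (Nat.card B) := by
        obtain ⟨e, he⟩ := IsPGroup.iff_card.mp (hpT.to_le (inf_le_right : (Cn y ⊓ T : Subgroup G) ≤ T))
        rw [he]
        exact Nat.Coprime.pow_left e ((Nat.Prime.coprime_iff_not_dvd htp).mpr hBt)
      exact Nat.Coprime.mul_dvd_of_dvd_of_dvd hcopTB
        (Subgroup.card_dvd_of_le (inf_le_inf_left _ hTN)) (Subgroup.card_dvd_of_le (le_inf hBCy hBN))
    have heq : Nat.card (Cn y ⊓ N : Subgroup G) = Nat.card (Cn y ⊓ T : Subgroup G) * Nat.card B :=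
      Nat.dvd_antisymm hdvd1 hdvd2
    have hBpos : 0 < Nat.card B := Nat.card_pos
    have : Nat.card T * Nat.card B = (n * Nat.card (Cn y ⊓ T : Subgroup G)) * Nat.card B := by
      rw [mul_comm (Nat.card T), hcardN, hN, heq]; ring
    exact Nat.eq_of_mul_eq_mul_right hBpos this

end Cfsg.Agent.Lib.Helper41.CS3
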