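import Mathlib
import Cfsg.Agent.Lib.Helper41.CS3.GoodAsm
import Cfsg.Agent.Lib.Helper41.CS3.GoodIto
import Cfsg.Agent.Lib.Helper24.CS3.GoodBasic
import Cfsg.Agent.Lib.Helper24.CS3.GoodMs
import Cfsg.Agent.Lib.Helper53.CS3.GoodExy
import Cfsg.Agent.Lib.Helper45.CS3.GoodMsa
import Cfsg.Agent.Lib.Helper80.CS3.GoodNC
import Cfsg.Agent.Lib.Helper80.CS3.GoodG4
import Cfsg.Agent.Lib.Helper71.CS3.GoodG1
import Cfsg.Agent.Lib.Helper61.CS3.GoodS1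
import Cfsg.Agent.Lib.Helper78.CS3.GoodS3
import Cfsg.Agent.Lib.Helper93.CS3.GoodS5
import Cfsg.Agent.Lib.Helper11.CS3.GoodS4b
import Cfsg.Agent.Lib.Helper88.CS3.GoodG3
import Cfsg.Agent.Lib.Helper29.CS3.GoodG5
import Cfsg.Agent.Lib.Helper91.CS3.GoodG6fin
import Cfsg.Agent.Lib.Helper51.CS3.GoodHy
import Cfsg.Agent.Lib.Helper72.CS3.GoodNrm
import Cfsg.Agent.Lib.Helper89.CS3.GoodG6c
import Cfsg.Agent.Lib.Helper92.CS3.Split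
import Cfsg.Agent.Lib.Helper92.CS3.Prim
import Cfsg.Agent.Lib.Helper76.CS3.GoodAt
import Cfsg.Agent.Lib.Helper71.CS3.GoodS2
import Cfsg.Agent.Lib.Helper78.CS3.GoodS4

/-!
# CS3 (S4284), part GOOD: the package `PkgGood`, all packages instantiated.
-/

set_option autoImplicit false

namespace Cfsg.Agent.Lib.Helper41.CS3

universe u

/-- everything except [S2] and [S4]. -/
theorem pkgGood_of2 (hS2 : PkgS2.{u}) (hS4 : PkgS4.{u}) :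
    Cfsg.Agent.Lib.Helper81.CS3.PkgGood.{u} :=
  pkgGood_of Cfsg.Agent.Lib.Helper24.CS3.pkgCover Cfsg.Agent.Lib.Helper53.CS3.pkgExy
    Cfsg.Agent.Lib.Helper45.CS3.pkgMsa Cfsg.Agent.Lib.Helper24.CS3.pkgMs
    Cfsg.Agent.Lib.Helper80.CS3.pkgConj Cfsg.Agent.Lib.Helper24.CS3.pkgMsb
    Cfsg.Agent.Lib.Helper80.CS3.pkgGoodNC Cfsg.Agent.Lib.Helper71.CS3.pkgG1 pkgIto
    (Cfsg.Agent.Lib.Helper61.CS3.pkgS1_of Cfsg.Agent.Lib.Helper24.CS3.pkgSylow) hS2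
    (Cfsg.Agent.Lib.Helper78.CS3.pkgS3_of Cfsg.Agent.Lib.Helper24.CS3.pkgSylow) hS4
    (Cfsg.Agent.Lib.Helper93.CS3.pkgS5_of Cfsg.Agent.Lib.Helper24.CS3.pkgSylow
      Cfsg.Agent.Lib.Helper92.CS3.pkgPrim Cfsg.Agent.Lib.Helper76.CS3.pkgAt)
    Cfsg.Agent.Lib.Helper88.CS3.pkgG3 Cfsg.Agent.Lib.Helper80.CS3.pkgG4c
    Cfsg.Agent.Lib.Helper80.CS3.pkgG4d Cfsg.Agent.Lib.Helper29.CS3.pkgG5
    Cfsg.Agent.Lib.Helper91.CS3.pkgG6fin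
    (Cfsg.Agent.Lib.Helper51.CS3.pkgHy_of Cfsg.Agent.Lib.Helper80.CS3.pkgGoodNC
      Cfsg.Agent.Lib.Helper80.CS3.pkgG4c Cfsg.Agent.Lib.Helper92.CS3.pkgSplit)
    Cfsg.Agent.Lib.Helper72.CS3.pkgNrm
    (Cfsg.Agent.Lib.Helper89.CS3.pkgG6c_of Cfsg.Agent.Lib.Helper80.CS3.pkgGoodNC)

/-- [GOOD] a good element gives a normal abelian Hall `π(n)`-subgroup. -/
theorem pkgGood : Cfsg.Agent.Lib.Helper81.CS3.PkgGood.{u} :=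
  pkgGood_of2 Cfsg.Agent.Lib.Helper71.CS3.pkgS2
    (Cfsg.Agent.Lib.Helper78.CS3.pkgS4_of
      (Cfsg.Agent.Lib.Helper11.CS3.pkgS4b_of Cfsg.Agent.Lib.Helper24.CS3.pkgSylow)
      Cfsg.Agent.Lib.Helper76.CS3.pkgAt)

end Cfsg.Agent.Lib.Helper41.CS3
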